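/-
Minimal `2`-fusion systems in the pushing up case: definitions for the identification.
-/
import Cfsg.Agent.Loc.AB2
import Cfsg.Agent.Fus.Real
import Cfsg.Agent.Fus.Ess
import Cfsg.Prelude.Def_CaseTheorems
import Cfsg.Prelude.Def_Local
import Cfsg.Prelude.Def_Transfer
import Cfsg.Prelude.Def_Classical
import Cfsg.Prelude.Def_Spor_J3
set_option autoImplicit false
set_option linter.unusedSectionVars false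

namespace CF.Hk
open Subgroup Cfsg CF.BG CF.Sig CF.GW CF.Ab2
open CF.Cl2 (AB Nt Mv)
open CF.Fus (Mor NMor PIso MulOn img Sat FIso FSolv norF)
open scoped commutatorElement MatrixGroups

/-- the shape of the last case -/
def C6 (L G : Type*) [Group L] [Group G] : Prop :=
  Nonempty (generalizedFittingSubgroup G ≃* L) ∧ generalizedFittingSubgroup G ≤ pResidual 2 G ∧
    Odd ((generalizedFittingSubgroup G).subgroupOf (pResidual 2 G)).index ∧ (pResidual 2 G).index = 2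

/-- the conclusion -/
def Cn (S G : Type*) [Group S] [Group G] : Prop :=
  ((∃ m : ℕ, 8 ≤ m ∧ Nonempty (S ≃* DihedralGroup m)) ∧
      ∃ (K : Type) (_ : Field K) (_ : Fintype K), Odd (Fintype.card K) ∧
        (Nonempty (G ≃* PSL(2, K)) ∨ Nonempty (G ≃* GL (Fin 2) K ⧸ center (GL (Fin 2) K)))) ∨
    (IsQuasiDihedral S ∧ ∃ (K : Type) (_ : Field K) (_ : Fintype K) (r : ℕ), Odd r ∧ Fintype.card K = r ^ 2 ∧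
      ∃ L : Subgroup G, L.Normal ∧ L.index = 2 ∧ centralizer (L : Set G) = ⊥ ∧ Nonempty (L ≃* PSL(2, K))) ∨
    (IsQuasiDihedral S ∧ Nat.card S = 16 ∧ Nonempty (G ≃* PSL(3, ZMod 3))) ∨
    (Nat.card S = 32 ∧ (Nonempty (G ≃* MulAut (alternatingGroup (Fin 6))) ∨ Nonempty (G ≃* MulAut PSL(3, ZMod 3)))) ∨
    (Nat.card S = 2 ^ 7 ∧ Spor.IsoJ3 G) ∨
    ∃ (K : Type) (_ : Field K) (_ : Fintype K), C6 PSL(3, K) G ∨ C6 (PSp 2 K) G ∧ ∃ e : ℕ, Odd e ∧ Fintype.card K = 2 ^ e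

section any
variable {Ω : Type*} [Group Ω] {S : Subgroup Ω}

/-- `F` is realized by one of the groups of the conclusion -/
def Rz (F : FusionSystem S) : Prop := ∃ (H : Type) (_ : Group H) (_ : Finite H) (t : Ω → H), Fus.Real F 2 t ⊤ ∧ Cn S H

/-- the normalizer systems are solvable -/
def Mn (F : FusionSystem S) : Prop := ∀ U (h : U ≤ S), U ≠ ⊥ → F.IsFullyNormalized U → FSolv (norF F h)

/-- a self-centralizing four-group -/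
def Dh (S : Subgroup Ω) : Prop :=
  16 ≤ Nat.card S ∧ ∃ A ≤ S, Nat.card A = 4 ∧ (∀ a ∈ A, a * a = 1) ∧ S ⊓ centralizer (A : Set Ω) ≤ A

/-- `N_F(U) ≤ N` -/
def NN (F N : FusionSystem S) (U : Subgroup Ω) : Prop := ∀ P f, NMor F U P f → Mor N P f

/-- the hypotheses of the theorem -/
structure H0 (F N : FusionSystem S) : Prop where
  sat : Sat F 2
  core : F.core = ⊥
  mn : Mn F
  nsat : Sat N 2
  le : ∀ P f, Mor N P f → Mor F P f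
  ne : ¬ ∀ P f, Mor F P f → Mor N P f
  par : ∀ R, R ≠ ⊥ → R ≤ S → (∀ f, Mor F S f → img f R = R) → NN F N R

end any

variable {G G₁ L : Type*} [Group G] [Group G₁] [Group L]

/-- `S = B⟨s⟩`, `B = A A'`, and `s` swaps `A` and `A'` -/
structure St (S A A' B : Subgroup G) (s : G) : Prop where
  ab : AB B A A' B
  pS : P2 S
  bS : B ≤ S
  sS : s ∈ S
  cov : ∀ x ∈ S, x ∈ B ∨ x * s ∈ B
  sw : cj s A = A'
  sw' : cj s A' = A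

/-- the action of `s` on `Z = A ∩ A'` -/
structure Nz (A A' : Subgroup G) (s : G) : Prop where
  c : A ⊓ A' ≤ 𝐂₁ s → 2 < A'.relIndex A
  t : (𝐂₁ s).relIndex (A ⊓ A') = 2 → ♯(A ⊓ A' : Subgroup G) = 4

/-- the only candidate for an essential subgroup outside `B` -/
def Es (S A A' B : Subgroup G) : Subgroup G := (A ⊓ A') ⊔ closure {v | v ∈ S ∧ v ∉ B ∧ v * v = 1}

/-- `X` realizes `N_F(A)` and `Y` realizes `N_F(B)` -/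
structure Cf {S : Subgroup G} (F : FusionSystem S) (K : Type) [Field K] (A A' B X P Y : Subgroup G) (s : G)
    (ρ : G → SL(2, K)) (ψ : G → Fin 2 → K) : Prop where
  st : St S A A' B s
  sat : Sat F 2
  nt : Nt K X A A' B P ρ ψ
  xn : X ≤ 𝐍 A
  xm : ∀ g ∈ X, ∀ R ≤ B, (∀ x ∈ R, g * x * g⁻¹ ∈ B) → Mor F R (Fus.cj g)
  xr : ∀ R f, A ≤ R → R ≤ B → Mor F R f → img f A = A → ∃ g ∈ X, ∀ x ∈ R, f x = g * x * g⁻¹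
  yn : Y ≤ 𝐍 B
  ys : Syl 2 S Y
  ym : ∀ g ∈ Y, ∀ R ≤ S, (∀ x ∈ R, g * x * g⁻¹ ∈ S) → Mor F R (Fus.cj g)
  yr : ∀ R f, B ≤ R → Mor F R f → img f B = B → ∃ g ∈ Y, ∀ x ∈ R, f x = g * x * g⁻¹

/-- the same with trivial kernels; `D = A ⊓ 𝐂 P` meets its conjugate trivially -/
structure Cp {S : Subgroup G} (F : FusionSystem S) (K : Type) [Field K] (A A' B X P Y : Subgroup G) (s : G)
    (ρ : G → SL(2, K)) (ψ : G → Fin 2 → K) : Prop extends Cf F K A A' B X P Y s ρ ψ where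
  cx : X ⊓ 𝐂 A ≤ A
  cy : Y ⊓ 𝐂 B ≤ B
  dd : ∀ d ∈ A ⊓ 𝐂 P, s * d * s⁻¹ ∈ 𝐂 P → d = 1

/-- `f` matches two configurations -/
structure Mt (f : G → G₁) (A A' B X Y : Subgroup G) (A₁ B₁ X₁ Y₁ : Subgroup G₁) : Prop where
  iso : PIso f Y Y₁
  b : img f B = B₁
  a : img f A = A₁
  w : ∃ w ∈ X, w ∉ 𝐍 (A ⊓ A') ∧ ∃ w₁ ∈ X₁, ∀ a ∈ A, f (w * a * w⁻¹) = w₁ * f a * w₁⁻¹

/-- `N` is a complement to `B` in `Y` acting faithfully on `B` -/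
structure Cm (B Y N : Subgroup G) : Prop where
  le : N ≤ Y
  dec : ∀ y ∈ Y, ∃ b ∈ B, ∃ n ∈ N, y = b * n
  dis : ∀ n ∈ N, n ∈ B → n = 1
  fa : ∀ n ∈ N, n ∈ 𝐂 B → n = 1

/-- coordinates of type `A₂` -/
structure Co3 (K : Type) [Field K] (A B X Y N : Subgroup G) (x₁ x₂ x₃ : K → G) : Prop extends Cm B Y N where
  m1 : ∀ a b, x₁ (a + b) = x₁ a * x₁ b
  m2 : ∀ a b, x₂ (a + b) = x₂ a * x₂ b
  m3 : ∀ a b, x₃ (a + b) = x₃ a * x₃ b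
  c12 : ∀ a b, x₂ b * x₁ a = x₁ a * x₂ b * x₃ (a * b)
  c13 : ∀ a c, x₃ c * x₁ a = x₁ a * x₃ c
  c23 : ∀ b c, x₃ c * x₂ b = x₂ b * x₃ c
  inj : ∀ a b c, x₁ a * x₂ b * x₃ c = 1 → a = 0 ∧ b = 0 ∧ c = 0
  memB : ∀ g, g ∈ B ↔ ∃ a b c, g = x₁ a * x₂ b * x₃ c
  memA : ∀ g, g ∈ A ↔ ∃ a c, g = x₁ a * x₃ c
  act : ∀ n ∈ N, ∃ (σ : K ≃+* K) (c d : Kˣ),
    (∀ a, n * x₁ a * n⁻¹ = x₁ (c * σ a) ∧ n * x₂ a * n⁻¹ = x₂ (d * σ a)) ∨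
    (∀ a, n * x₁ a * n⁻¹ = x₂ (c * σ a) ∧ n * x₂ a * n⁻¹ = x₁ (d * σ a))
  tor : ∀ l m : Kˣ, ∃ n ∈ N, ∀ a, n * x₁ a * n⁻¹ = x₁ ((l * l * m⁻¹ : Kˣ) * a) ∧ n * x₂ a * n⁻¹ = x₂ ((m * m * l⁻¹ : Kˣ) * a)
  w : ∃ w ∈ X, ∀ a, w * x₁ a * w⁻¹ = x₃ a ∧ w * x₃ a * w⁻¹ = x₁ a

/-- coordinates of type `B₂` -/
structure Co4 (K : Type) [Field K] (A B X Y N : Subgroup G) (x₁ x₂ x₃ x₄ : K → G) : Prop extends Cm B Y N where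
  m1 : ∀ a b, x₁ (a + b) = x₁ a * x₁ b
  m2 : ∀ a b, x₂ (a + b) = x₂ a * x₂ b
  m3 : ∀ a b, x₃ (a + b) = x₃ a * x₃ b
  m4 : ∀ a b, x₄ (a + b) = x₄ a * x₄ b
  c14 : ∀ a e, x₄ e * x₁ a = x₁ a * x₂ (a * a * e) * x₃ (a * e) * x₄ e
  c12 : ∀ a b, x₂ b * x₁ a = x₁ a * x₂ b
  c13 : ∀ a c, x₃ c * x₁ a = x₁ a * x₃ c
  c23 : ∀ b c, x₃ c * x₂ b = x₂ b * x₃ c
  c24 : ∀ b e, x₄ e * x₂ b = x₂ b * x₄ e
  c34 : ∀ c e, x₄ e * x₃ c = x₃ c * x₄ e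
  inj : ∀ a b c e, x₁ a * x₂ b * x₃ c * x₄ e = 1 → a = 0 ∧ b = 0 ∧ c = 0 ∧ e = 0
  memB : ∀ g, g ∈ B ↔ ∃ a b c e, g = x₁ a * x₂ b * x₃ c * x₄ e
  memA : ∀ g, g ∈ A ↔ ∃ a b c, g = x₁ a * x₂ b * x₃ c
  act : ∀ n ∈ N, ∃ (σ : K ≃+* K) (c d : Kˣ),
    (∀ a, n * x₁ a * n⁻¹ = x₁ (c * σ a) ∧ n * x₄ a * n⁻¹ = x₄ (d * σ a)) ∨
    (∀ a, n * x₁ a * n⁻¹ = x₄ (c * σ (a * a)) ∧ n * x₄ a * n⁻¹ = x₁ (d * σ a))
  tor : ∀ c d : Kˣ, ∃ n ∈ N, ∀ a, n * x₁ a * n⁻¹ = x₁ (c * a) ∧ n * x₄ a * n⁻¹ = x₄ (d * a)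
  w : ∃ w ∈ X, ∀ a, w * x₁ a * w⁻¹ = x₃ a ∧ w * x₃ a * w⁻¹ = x₁ a ∧ w * x₂ a * w⁻¹ = x₂ a

/-- a simple group `L` with Sylow subgroup `U = A₀ A₁` and a group `Λ` of automorphisms containing a torus -/
structure Md (U A₀ A₁ : Subgroup L) (Λ : Subgroup (MulAut L)) (w₀ : L) : Prop where
  ns : IsSimpleGroup L
  ab : AB ⊤ A₀ A₁ U
  nU : ∀ l ∈ Λ, ∀ u ∈ U, l u ∈ U
  fa : ∀ l ∈ Λ, (∀ u ∈ U, l u = u) → l = 1
  dec : ∀ g ∈ 𝐍 U, ∃ u ∈ U, ∃ h, MulAut.conj h ∈ Λ ∧ g = u * h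
  wA : w₀ ∈ 𝐍 A₀
  wZ : w₀ ∉ 𝐍 (A₀ ⊓ A₁)

/-- `n` acts on `B` as `l` acts on its image -/
def Ac (θ : G → L) (B : Subgroup G) (n : G) (l : MulAut L) : Prop := ∀ b ∈ B, θ (n * b * n⁻¹) = l (θ b)

/-- the automorphisms induced by `N` -/
def Nh (Λ : Subgroup (MulAut L)) (θ : G → L) (B N : Subgroup G) : Subgroup (MulAut L) :=
  closure {l | l ∈ Λ ∧ ∃ n ∈ N, Ac θ B n l}

/-- coordinates in a model -/
structure Co (U A₀ : Subgroup L) (Λ : Subgroup (MulAut L)) (w₀ : L) (θ : G → L) (A B X Y N : Subgroup G) : Prop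
    extends Cm B Y N where
  iso : PIso θ B U
  a : img θ A = A₀
  lam : ∀ n ∈ N, ∃ l ∈ Λ, Ac θ B n l
  tor : ∀ h, MulAut.conj h ∈ Λ → ∃ n ∈ N, Ac θ B n (MulAut.conj h)
  w : ∃ w ∈ X, ∀ a ∈ A, θ (w * a * w⁻¹) = w₀ * θ a * w₀⁻¹

/-- the automorphisms of `L₃(4)` seen in `J₃` -/
structure J4 (A₀ A₁ : Subgroup L) (Λ M : Subgroup (MulAut L)) : Prop where
  le : M ≤ Λ
  tor : ∀ h, MulAut.conj h ∈ Λ → MulAut.conj h ∈ M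
  odd : ∀ l ∈ M, (∀ a ∈ A₀, l a ∈ A₀) → Odd (orderOf l)
  ex : ∃ l ∈ M, l * l = 1 ∧ (∃ a ∈ A₀, l a ∉ A₀) ∧ (∃ z ∈ A₀ ⊓ A₁, l z ≠ z) ∧
    ∃ k ∈ M, k ≠ 1 ∧ Odd (orderOf k) ∧ k * l = l * k

/-- a target group with `|Z| = 4` -/
structure Tg (S A A' B : Subgroup G) (s : G) : Prop where
  st : St S A A' B s
  syl : Syl 2 S ⊤
  mv : Mv ⊤ A A'
  cA : 𝐂 A ≤ A
  z4 : ♯(A ⊓ A' : Subgroup G) = 4
  sz : ¬ A ⊓ A' ≤ 𝐂₁ s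

/-- `B` is not strongly closed in `S` -/
def Ns (S B : Subgroup G) : Prop := ∃ g, ∃ b ∈ B, g * b * g⁻¹ ∈ S ∧ g * b * g⁻¹ ∉ B

end CF.Hk
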