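/-
Minimal `2`-fusion systems on dihedral and semidihedral groups.
-/
import Cfsg.Agent.Hk.A
import Cfsg.Agent.FusB.Dq7
import Cfsg.Agent.Fus.Solv
set_option autoImplicit false
set_option linter.unusedSectionVars false

namespace CF.Hk
open Subgroup Cfsg CF.BG CF.Sig CF.GW CF.Ab2
open CF.Fus (Mor NMor PIso MulOn img Sat FIso FSolv norF)
open scoped commutatorElement MatrixGroups

namespace D
open CF.Fus CF.FusB CF.Invol CF.Classical Matrix SemidirectProduct
open CF.Transfer (pRes)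

section gen
variable {G : Type*} [Group G] [Finite G] {S : Subgroup G} {F : FusionSystem S} {n : ℕ} {k c : ZMod (2 ^ n)}
  {a b : ZMod (2 ^ n) → G}

theorem cases (hS : IsPGroup 2 S) (d : Dh S) :
    (∃ m, 3 ≤ m ∧ Nonempty (S ≃* DihedralGroup (2 ^ m))) ∨ IsQuasiDihedral S := by
  obtain ⟨h16, A, hA, h4, h2, hc⟩ := d
  have ab : A ≤ centralizer (A : Set G) := fun x hx y hy => by
    have e := h2 _ (mul_mem hy hx)
    rw [← inv_eq_of_mul_eq_one_right e, _root_.mul_inv_rev, inv_eq_of_mul_eq_one_right (h2 x hx),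
      inv_eq_of_mul_eq_one_right (h2 y hy)]
  obtain ⟨z, hz, z2⟩ := exists_central_invol hS (by rintro rfl; simp at h16)
  have zA : z ∈ A := hc ⟨hz.1, centralizer_le hA hz.2⟩
  obtain ⟨x, hx, nx⟩ : ∃ x ∈ A, x ∉ zpowers z := SetLike.not_le_iff_exists.1 fun e => by
    have := card_le_of_le e
    rw [Nat.card_zpowers, z2] at this; omega
  have x2 : orderOf x = 2 := orderOf_eq_prime (by rw [sq, h2 x hx]) fun e => nx (e ▸ one_mem _)
  have eA : zpowers z ⊔ zpowers x = A := eq_of_le_of_card_ge (sup_le (zpowers_le.2 zA) (zpowers_le.2 hx)) (by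
    rw [card_sup_zpowers (centralizer_le_normalizer _ (centralizer_le (zpowers_le.2 zA) (ab hx)))
      (h2 x hx ▸ one_mem _) nx, Nat.card_zpowers, z2, h4])
  have hC : S ⊓ centralizer {x} = A := le_antisymm (fun t ht => hc ⟨ht.1, fun y hy =>
    mem_centralizer_singleton_iff.1 ((eA.ge.trans (sup_le (zpowers_le.2 (mem_centralizer_singleton_iff.2
      (hz.2 t ht.1).symm)) (zpowers_le.2 (mem_centralizer_singleton_iff.2
        (mem_centralizer_singleton_iff.1 ht.2).symm)))) hy)⟩)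
    (le_inf hA fun y hy => mem_centralizer_singleton_iff.2 (ab hx y hy))
  have h1 : Nat.card (centralizer ({(⟨x, hA hx⟩ : S)} : Set S)) = 4 := by
    rw [← h4, ← hC, ← CF.Solv.card_subgroupOf_of_le (H := S ⊓ centralizer {x}) (K := S) inf_le_left]
    congr 2
    ext g
    simp only [mem_centralizer_singleton_iff, mem_subgroupOf, mem_inf, SetLike.coe_mem, true_and]
    exact ⟨fun h => congrArg Subtype.val h, fun h => Subtype.ext h⟩
  rcases two_group_cases_of_card_centralizer hS ((orderOf_mk _ _).trans x2) h1 with ⟨m, hm, ⟨e⟩⟩ | e | e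
  · refine .inl ⟨m, by_contra fun h3 => ?_, ⟨e⟩⟩
    obtain rfl : m = 2 := by omega
    rw [Nat.card_congr e.toEquiv, Nat.card_eq_fintype_card, DihedralGroup.card] at h16
    omega
  · exact .inr e
  · omega

theorem ex_two (h : MB S n k c a b) (hF : Sat F 2) (hc : F.core = ⊥) :
    ∃ l, orderOf (b l) = 2 ∧ b l ∈ F.focalSubgroup := by
  by_contra hn
  push Not at hn
  have := le_core (normal_of_central (hF.central_of_fix (zpowers_le.2 (h.a_mem (zh n))) fun P f hf x hx hx' => ?_))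
  · rw [hc, zpowers_le, mem_bot, h.a_eq_one] at this
    exact zh_ne_zero h.one_le this
  rcases (mem_zpowers_two h.orderOf_zh).1 hx' with rfl | rfl
  · exact hf.mul.map_one
  have o : orderOf (f (a (zh n))) = 2 := (hf.piso.orderOf_apply hx).trans h.orderOf_zh
  rcases (h.mem _).1 (hf.maps hx) with ⟨i, e⟩ | ⟨i, e⟩
  · rw [e] at o ⊢
    rw [(h.orderOf_a_eq_two h.one_le).1 o]
  · have m := Fus.mem_focal hf hx
    rw [← two_mul_zq h.two_le, mul_mem_cancel_left (inv_mem (h.a_two_mem F _)), two_mul_zq h.two_le, e] at m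
    exact absurd m (hn i (e ▸ o))

theorem nsolv {a b : ZMod (2 ^ n) → G} (h : MB S n (zh n - 1) 0 a b) (hn : 4 ≤ n) (hF : Sat F 2)
    (h1 : b 1 ∈ F.focalSubgroup) (hz : zpowers (a (zh n)) ≤ S) : ¬ FSolv (norF F hz) := by
  rintro ⟨m, hm⟩
  have z2 := two_mul_zh (n := n) (by omega)
  have q2 := two_mul_zq (n := n) (by omega)
  have hq := zh_mul_zq (n := n) (by omega)
  have nz : S ≤ normalizer (zpowers (a (zh n)) : Set G) := fun g hg => centralizer_le_normalizer _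
    (le_centralizer_iff.1 (zpowers_le.2 fun y hy => (h.commute_zh hy).eq) hg)
  have key : ∀ T, (norF F hz).StronglyClosed T → a (zq n) ∈ T → ∀ d, b (1 + 2 * d) ∈ T := fun T hT ha d => by
    have o4 : 1 + 2 * d + (zh n - 1) * (1 + 2 * d) + 0 = zh n := by linear_combination d * z2
    have lt := h.TT_lt (1 + 2 * d)
    obtain ⟨α, hα, -, p1, p2⟩ := exists_odd_fn (h.isPGroup.to_le lt.le) ((h.focal_iff hF).1 ((h.b_mem_iff F 1 d).2 h1))
    have p3 := mor_fn lt.le hα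
    generalize fn α = Φ at p1 p2 p3
    rw [TT_four (h.orderOf_b_eq_four.2 o4)] at p1 p2 p3 lt
    obtain ⟨r, hr⟩ := MX.odd_move h.toMX ⟨2, o4.trans q2.symm⟩ p1 p2
    have m1 : a (zq n) ∈ zpowers (a (zq n)) ⊔ zpowers (b (1 + 2 * d)) := mem_sup_left (mem_zpowers _)
    have e1 : a (zq n) * a (zq n) = a (zh n) := by rw [h.aa, ← two_mul, q2]
    have m2 : zpowers (a (zh n)) ≤ zpowers (a (zq n)) ⊔ zpowers (b (1 + 2 * d)) := zpowers_le.2 (e1 ▸ mul_mem m1 m1)
    have e2 : Φ (a (zh n)) = a (zh n) := by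
      rw [← e1, p3.mul.map_mul m1 m1, hr, h.bb, e1]
      congr 1
      linear_combination d * z2 + r * hq
    have p4 := sc_maps hT ((mor_norF hz).2 (NMor.of_ext p3 le_rfl m2 (le_NS_iff.2 ⟨lt.le, lt.le.trans nz⟩)
      (by rw [(p3.mul.mono m2).img_zpowers, e2]))) m1 ha
    rwa [hr, add_comm, ← h.ab, mul_mem_cancel_left (h.a_mul_mem ha r)] at p4
  have : ∀ i d, b (1 + 2 * d) ∈ dser (norF F hz) i := fun i => by
    induction i with
    | zero => exact fun d => mem_NS.2 ⟨h.b_mem _, nz (h.b_mem _)⟩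
    | succ i ih =>
      refine key _ (sc_dser _ _) (comm_dser_le i ?_)
      obtain ⟨w, hw⟩ : ∃ w, 2 * w = ze n := ⟨((2 ^ (n - 4) : ℕ) : ZMod (2 ^ n)), by
        rw [ze, show n - 3 = n - 4 + 1 by omega]; push_cast; ring⟩
      have := commutator_mem_commutator (ih w) (ih 0)
      rw [commutatorElement_def, h.conj_bb, h.b_inv, h.bb] at this
      convert this using 2
      linear_combination -two_mul_ze (n := n) (by omega) - 2 * hw + w * z2 + (1 + 2 * 0) * h.kk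
  have := this m 0
  rw [hm, mem_bot] at this
  exact h.b_ne_one _ this

theorem of_gens {H T N : Subgroup G} (h : MB T n k c a b) (hT : SylIn 2 T H) (e : H = N ⊔ zpowers (a 1))
    (h1 : a 1 ∈ normalizer (N : Set G)) (h2 : a 1 ∉ N) (h3 : b 0 ∈ pRes 2 N) :
    b 0 ∈ (FG H T hT.le).focalSubgroup ∧ b 1 ∉ (FG H T hT.le).focalSubgroup := by
  subst e
  refine ⟨mem_focalG hT (h.b_mem 0) (CF.Transfer.pRes_mono le_sup_left h3), fun h4 => h2 ?_⟩
  have := focalG_le hT.le (comm_mem_of_sup h1) h4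
  rwa [← add_zero (1 : ZMod (2 ^ n)), ← h.ab, mul_mem_cancel_right (CF.Transfer.pRes_le _ h3)] at this

end gen

theorem ex_PGL {n : ℕ} (hn : 2 ≤ n) : ∃ (K : Type) (_ : Field K) (_ : Fintype K), Odd (Fintype.card K) ∧
    ∃ (T : Subgroup PGL(2, K)) (hT : SylIn 2 T ⊤) (a b : ZMod (2 ^ n) → PGL(2, K)), MB T n (-1) 0 a b ∧
      b 0 ∈ (FG ⊤ T hT.le).focalSubgroup ∧ b 1 ∉ (FG ⊤ T hT.le).focalSubgroup := by
  obtain ⟨K, _, _, r, hr, e⟩ := exists_field_one n (by omega)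
  have h2 := two_ne_zero_of_card (by omega) e
  obtain ⟨s, hs, e2⟩ := sq_one hn hr e
  obtain ⟨ω, hω⟩ := exists_orderOf e
  have hx := (orderOf_injective _ dP_inj ω).trans hω
  have h1 := (yS_dP ω).trans (_root_.zpow_neg_one _).symm
  obtain ⟨a, b, h, a1, b0⟩ := mc_of_gens hx h1 (γ := 0) yP_sq (not_mem_zpowers_of_conj h1 (inv_ne_self hx hn))
    (k := -1) (c := 0) (by simp) (by simp)
  obtain ⟨m, rfl⟩ := Nat.exists_eq_add_of_le' (show 1 ≤ n by omega)
  have nx : a 1 ∉ psl K := fun e' => not_isSquare hr e hω (dP_mem.1 (a1 ▸ e'))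
  have hT := syl_of_card (p := 2) le_top h.card (r := Nat.card K * s)
    (by rw [card_top, card_PGL_two, e2, Nat.add_sub_cancel, mul_left_comm])
    (not_two_dvd (Classical.odd_card_of_two_ne_zero h2) hs)
  refine ⟨K, _, inferInstance, Nat.card_eq_fintype_card (α := K) ▸ Classical.odd_card_of_two_ne_zero h2, _, hT, a, b,
    mb_dh h hn, of_gens (N := psl K) (mb_dh h hn) hT (eq_top_iff.2 fun g _ => ?_).symm (by simp [normalizer_eq_top]) nx
      (b0 ▸ yS_mem h2 _ ⟨_, rfl⟩ ⟨_, rfl⟩)⟩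
  by_cases hg : g ∈ psl K
  · exact mem_sup_left hg
  · exact (mul_mem_cancel_right (mem_sup_right (mem_zpowers (a 1)))).1
      (mem_sup_left ((mul_mem_iff_of_index_two (index_psl_of_odd h2)).2 (iff_of_false hg nx)))

theorem ex_sq {n : ℕ} (hn : 2 ≤ n) : ∃ (K : Type) (_ : Field K) (_ : Fintype K) (σ : RingAut K) (ω : Kˣ)
    (s t q : ℕ), Odd s ∧ Odd t ∧ Odd q ∧ Fintype.card K = q ^ 2 ∧ Nat.card K = 2 ^ (n + 1) * s + 1 ∧
      Nat.card K ^ 2 = 2 ^ (n + 2) * t + 1 ∧ σ * σ = 1 ∧ orderOf ω = 2 ^ (n + 1) ∧ σ ω = -ω := by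
  obtain ⟨q, r, hq, hr, e⟩ := exists_prime_one n (by omega)
  haveI := Fact.mk hq
  obtain ⟨s, hs, e1⟩ := sq_one hn hr e
  rw [← GaloisField.card q 2 two_ne_zero] at e1
  obtain ⟨t, ht, e2⟩ := sq_one (by omega) hs e1
  obtain ⟨ω, hω⟩ := exists_orderOf e1
  cases nonempty_fintype (GaloisField q 2)
  have e3 : Fintype.card (GaloisField q 2) = q ^ 2 := by
    rw [← Nat.card_eq_fintype_card, GaloisField.card q 2 two_ne_zero]
  refine ⟨GaloisField q 2, inferInstance, inferInstance, frobeniusEquiv _ q, ω, s, t, q, hs, ht,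
    e ▸ ((Nat.even_pow.2 ⟨even_two, by omega⟩).mul_right r).add_one, e3, e1, e2, RingEquiv.ext fun x => ?_, hω, ?_⟩
  · have := FiniteField.pow_card x
    rw [e3] at this
    rw [RingAut.mul_apply, frobeniusEquiv_def, frobeniusEquiv_def, ← pow_mul, ← sq, this, RingAut.one_apply]
  · exact (frobeniusEquiv_def ..).trans ((congrArg ((ω : GaloisField q 2) ^ ·) e).trans
      (by simp only [pow_succ, pow_half hω hr, neg_one_mul]))

theorem ex_PGaL {n : ℕ} (hn : 3 ≤ n) : ∃ (K : Type) (_ : Field K) (_ : Fintype K) (r : ℕ), Odd r ∧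
    Fintype.card K = r ^ 2 ∧ (2 : K) ≠ 0 ∧ ∃ (H T : Subgroup (GamL K)) (hT : SylIn 2 T H) (a b : ZMod (2 ^ n) → GamL K),
      MB T n (zh n - 1) 0 a b ∧ (b 0 ∈ (FG H T hT.le).focalSubgroup ∧ b 1 ∉ (FG H T hT.le).focalSubgroup) ∧
        Lg K ≤ H ∧ (Lg K).relIndex H = 2 := by
  obtain ⟨n, rfl⟩ := Nat.exists_eq_add_of_le' (show 2 ≤ n by omega)
  obtain ⟨K, _, _, σ, ω, s, t, q, hs, ht, hq, e0, e1, e2, hσ, hω, h3⟩ := ex_sq (n := n + 1) (by omega)
  have h2 := two_ne_zero_of_card (by omega) e1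
  have p1 : pact K σ (dP K ω) = dP K (-ω) := by rw [dP_apply, pact_aff, dP_apply, aff_eq_aff_iff]; simp [h3]
  have p2 : pact K σ (SpecialLinearGroup.toPGL (yS K)) = SpecialLinearGroup.toPGL (yS K) := by
    rw [yS, toPGL_sl2, pact_pgl]; simp
  let x : GamL K := ⟨dP K ω, σ⟩
  let f : Kˣ →* GamL K := inl.comp (dP K)
  have hf : Function.Injective f := inl_injective.comp dP_inj
  have hm : ω ^ 2 ^ (n + 1) = -1 := Units.ext (by simpa using pow_half hω odd_one)
  have n1 : (-1 : Kˣ) ≠ 1 := fun e => h2 (by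
    have : (-1 : K) = 1 := by simpa using Units.ext_iff.1 e
    linear_combination -this)
  have x2 : x * x = f (-(ω * ω)) := SemidirectProduct.ext (by simp [x, f, p1, ← map_mul]) (by simp [x, f, hσ])
  have x3 : x ^ 2 ^ (n + 1) = f (-1) := by
    rw [pow_succ', pow_mul, sq, x2, ← map_pow, (Nat.even_pow.2 ⟨even_two, by omega⟩).neg_pow, ← sq, ← pow_mul,
      ← pow_succ', hm]
  have hx : orderOf x = 2 ^ (n + 2) := orderOf_eq_prime_pow (x3 ▸ fun e => n1 (hf (e.trans f.map_one.symm)))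
    (by rw [pow_succ, pow_mul, x3, ← map_pow]; simp)
  have h1 : inl (SpecialLinearGroup.toPGL (yS K)) * x * (inl (SpecialLinearGroup.toPGL (yS K)))⁻¹ =
      x ^ (((2 ^ (n + 1) : ℕ) : ℤ) - 1) := by
    rw [_root_.zpow_sub_one, zpow_natCast, x3, eq_mul_inv_iff_mul_eq]
    refine SemidirectProduct.ext ?_ (by simp [x, f, hσ])
    have p3 := yS_dP ω
    generalize SpecialLinearGroup.toPGL (yS K) = y at p2 p3 ⊢
    simp only [x, f, mul_left, left_inl, right_inl, map_one, MulAut.one_apply, mul_right, one_mul, inv_left,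
      inv_one, map_inv, p2, inv_right, mul_one, p1, MonoidHom.comp_apply, p3]
    rw [← map_inv, ← map_mul]; simp
  obtain ⟨a, b, h, a1, b0⟩ := mc_of_gens hx h1 (γ := 0) (by rw [← map_mul, yP_sq, map_one, zpow_zero])
    (not_mem_zpowers_of_conj h1 fun e => by
      rw [_root_.zpow_sub_one, zpow_natCast, x3, mul_inv_eq_iff_eq_mul, x2] at e
      have := Nat.le_of_dvd two_pos (hω ▸ orderOf_dvd_of_pow_eq_one ((sq ω).trans (neg_inj.1 (hf e)).symm))
      have := Nat.pow_le_pow_right two_pos (show 2 ≤ n + 1 + 1 by omega)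
      omega) (k := zh (n + 2) - 1) (c := 0) (by simp [zh]) (by simp)
  have m0 : (inl (SpecialLinearGroup.toPGL (yS K)) : GamL K) ∈ pRes 2 (Lg K) :=
    yS_mem h2 (inl.comp SpecialLinearGroup.toPGL) (inl_mem_Lg.2 ⟨_, rfl⟩) (inl_mem_Lg.2 ⟨_, rfl⟩)
  have nx : x ∉ Lg K := fun e => not_isSquare hs e1 hω (dP_mem.1 (mem_Lg.1 e).1)
  have nn : x ∈ normalizer (Lg K : Set (GamL K)) := by simp [normalizer_eq_top]
  have xx : x * x ∈ Lg K := x2 ▸ inl_mem_Lg.2 (dP_mem.2 ⟨ω ^ 2 ^ n * ω, by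
    rw [mul_mul_mul_comm, ← pow_add, ← two_mul, ← pow_succ', ← Units.val_pow_eq_pow_val, hm]; simp⟩)
  have hT := syl_of_card (p := 2) (H := Lg K ⊔ zpowers x) (sup_le le_sup_right (zpowers_le.2 (mem_sup_left
    (CF.Transfer.pRes_le _ m0)))) h.card (r := Nat.card K * t) (by
      rw [card_sup_zpowers nn xx nx, Lg, card_map_of_injective inl_injective, card_psl, card_PSL2' h2 e2]
      ring) (not_two_dvd (Classical.odd_card_of_two_ne_zero h2) ht)
  exact ⟨K, _, inferInstance, q, hq, e0, h2, _, _, hT, a, b, mb_qd h hn,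
    of_gens (mb_qd h hn) hT (by rw [a1]) (a1 ▸ nn) (a1 ▸ nx) (b0 ▸ m0), le_sup_left, relIndex_sup_zpowers nn xx nx⟩

theorem ex_L33 : ∃ (T : Sylow 2 PSL(3, ZMod 3)) (a b : ZMod (2 ^ 3) → PSL(3, ZMod 3)), MB T 3 (zh 3 - 1) 0 a b := by
  obtain ⟨h1, h3⟩ := qd_GL2 (F := ZMod 3) (m := 2) (r := 1) le_rfl odd_one (by rw [Nat.card_zmod]; rfl) default
  obtain ⟨f⟩ := sylow_PSL3 (F := ZMod 3) (by decide) default default
  exact ⟨default, mb_of_qd (isQuasiDihedral_of_equiv f h1) ((Nat.card_congr f.toEquiv).symm.trans h3)⟩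

end D

section
open CF.Fus CF.FusB CF.Invol CF.Classical
variable {G : Type*} [Group G] [Finite G] {S : Subgroup G} {F : FusionSystem S}

theorem dh (hF : Sat F 2) (c : F.core = ⊥) (m : Mn F) (d : Dh S) : Rz F := by
  rcases D.cases hF.pg d with ⟨n, hn, ⟨e⟩⟩ | hq
  · have h8 : 8 ≤ 2 ^ n := Nat.pow_le_pow_right two_pos hn
    obtain ⟨n', a, b, e', h⟩ := exists_dh hF.pg (by omega) e
    obtain rfl : n = n' := by simpa using e'
    have h := mb_dh h.toMc (by omega)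
    have pg : ∀ {b}, MB S n (-1) 0 a b → b 0 ∈ F.focalSubgroup → b 1 ∉ F.focalSubgroup → Rz F := fun h h0 h1 => by
      obtain ⟨K, _, _, o, T, hT, a', b', h', f0, f1⟩ := D.ex_PGL (n := n) (by omega)
      obtain ⟨t, ht⟩ := h.real hF hT h' (iff_of_true h0 f0) (iff_of_false h1 f1)
      exact ⟨_, _, inferInstance, t, ht, .inl ⟨⟨_, h8, ⟨e⟩⟩, K, _, _, o, .inr ⟨MulEquiv.refl _⟩⟩⟩
    by_cases h0 : b 0 ∈ F.focalSubgroup <;> by_cases h1 : b 1 ∈ F.focalSubgroup
    · obtain ⟨K, _, _, k8, T, a', b', h'⟩ := exists_psl2 (n := n) (by omega)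
      have o : Odd (Nat.card K) := Nat.odd_iff.2 (by omega)
      have f := focalG_top (sylIn_top T) (pResidual_PSL _ (two_ne_zero_of_odd_card o))
      obtain ⟨t, ht⟩ := h.real hF (sylIn_top T) h' (iff_of_true h0 (f.ge (h'.b_mem _))) (iff_of_true h1 (f.ge (h'.b_mem _)))
      exact ⟨_, _, inferInstance, t, ht, .inl ⟨⟨_, h8, ⟨e⟩⟩, K, _, _, Nat.card_eq_fintype_card (α := K) ▸ o,
        .inl ⟨MulEquiv.refl _⟩⟩⟩
    · exact pg h h0 h1
    · exact pg h.shift (by rwa [zero_add]) (by rwa [← h.b_mem_iff _ 0 1, zero_add, mul_one, ← one_add_one_eq_two] at h0)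
    · obtain ⟨l, -, hl⟩ := D.ex_two h hF c
      obtain ⟨j, rfl | rfl⟩ := zm_even_or_odd l
      · rw [← zero_add (2 * j), h.b_mem_iff] at hl; exact absurd hl h0
      · rw [add_comm, h.b_mem_iff] at hl; exact absurd hl h1
  obtain ⟨n, a, b, h⟩ := exists_qd hq
  have hn := h.three_le
  have h := mb_qd h.toMc hn
  have h0 : b 0 ∈ F.focalSubgroup := by
    obtain ⟨l, l2, hl⟩ := D.ex_two h hF c
    obtain ⟨j, rfl | rfl⟩ := zm_even_or_odd l
    · rwa [← zero_add (2 * j), h.b_mem_iff] at hl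
    · exact absurd (by linear_combination h.orderOf_b_eq_two.1 l2 - j * two_mul_zh h.one_le) (zh_ne_zero h.one_le)
  by_cases h1 : b 1 ∈ F.focalSubgroup
  · rcases hn.eq_or_lt with rfl | hn
    · obtain ⟨T, a', b', h'⟩ := D.ex_L33
      have f := focalG_top (sylIn_top T) (pResidual_PSL _ (by decide))
      obtain ⟨t, ht⟩ := h.real hF (sylIn_top T) h' (iff_of_true h0 (f.ge (h'.b_mem _))) (iff_of_true h1 (f.ge (h'.b_mem _)))
      exact ⟨_, _, inferInstance, t, ht, .inr (.inr (.inl ⟨hq, h.card, ⟨MulEquiv.refl _⟩⟩))⟩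
    · have hz : zpowers (a (zh n)) ≤ S := zpowers_le.2 (h.a_mem _)
      exact absurd (m _ hz (zpowers_ne_bot.2 (ne_one_of_orderOf h.orderOf_zh)) (fn_of_norm F hz fun g hg =>
        centralizer_le_normalizer _ (le_centralizer_iff.1 (zpowers_le.2 fun y hy => (h.commute_zh hy).eq) hg)))
        (D.nsolv h hn hF h1 hz)
  obtain ⟨K, _, _, r, hr, e, h2, H, T, hT, a', b', h', ⟨f0, f1⟩, le, ix⟩ := D.ex_PGaL hn
  obtain ⟨t, ht⟩ := h.real hF hT h' (iff_of_true h0 f0) (iff_of_false h1 f1)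
  refine ⟨H, _, inferInstance, _, ht.restrict, .inr (.inl ⟨hq, K, _, _, r, hr, e, (Lg K).subgroupOf H, inferInstance, ix,
    eq_bot_iff.2 fun x hx => Subtype.ext ((cent_Lg h2).le fun y hy => ?_),
    ⟨(subgroupOfEquivOfLe le).trans (lgEquiv K).symm⟩⟩)⟩
  exact congrArg Subtype.val (hx ⟨y, le hy⟩ hy)

end

end CF.Hk
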