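/-
Minimal `2`-fusion systems: tools for the models.
-/
import Cfsg.Agent.Hk.A
set_option autoImplicit false
set_option linter.unusedSectionVars false

namespace CF.Hk.M
open Subgroup Cfsg CF.BG CF.Sig CF.GW CF.Ab2
open CF.Fus (PIso MulOn img)

variable {G L : Type*} [Group G] [Group L] {A B : Subgroup G} {U A₀ : Subgroup L} {θ : G → L} {n : G} {l : MulAut L}

theorem ex_piso {ι : Type*} [Nonempty ι] {f : ι → G} {f' : ι → L} (m : ι → ι → ι) (i : Function.Injective f)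
    (i' : Function.Injective f') (e : ∀ a b, f a * f b = f (m a b)) (e' : ∀ a b, f' a * f' b = f' (m a b))
    (hB : ∀ g, g ∈ B ↔ ∃ a, g = f a) (hU : ∀ g, g ∈ U ↔ ∃ a, g = f' a) : ∃ θ, PIso θ B U ∧ ∀ a, θ (f a) = f' a := by
  have k : ∀ a, f' (Function.invFun f (f a)) = f' a := fun a => by rw [Function.leftInverse_invFun i]
  refine ⟨fun g => f' (Function.invFun f g), ⟨fun x p y q => ?_, fun x p y q r => ?_,
    le_antisymm (Fus.img_le_iff.2 fun x _ => (hU _).2 ⟨_, rfl⟩) fun y p => ?_⟩, k⟩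
  · obtain ⟨a, rfl⟩ := (hB _).1 p
    obtain ⟨b, rfl⟩ := (hB _).1 q
    simp only [e, e', k]
  · obtain ⟨a, rfl⟩ := (hB _).1 p
    obtain ⟨b, rfl⟩ := (hB _).1 q
    simp only [k] at r
    rw [i' r]
  · obtain ⟨a, rfl⟩ := (hU _).1 p
    exact k a ▸ Fus.mem_img_of_mem (f := fun g => f' (Function.invFun f g)) ((hB _).2 ⟨a, rfl⟩)

theorem ac_of (m : MulOn θ B) (p : G → Prop) (g : ∀ H : Subgroup G, (∀ x, p x → x ∈ H) → B ≤ H)
    (h : ∀ x, p x → x ∈ B ∧ n * x * n⁻¹ ∈ B ∧ θ (n * x * n⁻¹) = l (θ x)) : Ac θ B n l := fun b k =>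
  (g ⟨⟨⟨{x | x ∈ B ∧ n * x * n⁻¹ ∈ B ∧ θ (n * x * n⁻¹) = l (θ x)}, fun {x y} u v => ⟨mul_mem u.1 v.1,
    by rw [← conj_mul]; exact mul_mem u.2.1 v.2.1, by rw [← conj_mul, m u.2.1 v.2.1, u.2.2, v.2.2, m u.1 v.1, map_mul]⟩⟩,
    by simp [m.map_one]⟩, fun {x} u => ⟨inv_mem u.1, by rw [← conj_inv]; exact inv_mem u.2.1,
      by rw [← conj_inv, m.map_inv u.2.1, u.2.2, m.map_inv u.1, map_inv]⟩⟩ h k).2.2

theorem img_of {ι : Type*} {f : ι → G} {f' : ι → L} (e : ∀ a, θ (f a) = f' a) (hA : ∀ g, g ∈ A ↔ ∃ a, g = f a)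
    (hU : ∀ g, g ∈ A₀ ↔ ∃ a, g = f' a) : img θ A = A₀ :=
  le_antisymm (Fus.img_le_iff.2 fun x p => by obtain ⟨a, rfl⟩ := (hA _).1 p; exact (hU _).2 ⟨a, e a⟩) fun y p => by
    obtain ⟨a, rfl⟩ := (hU _).1 p
    exact e a ▸ Fus.mem_img_of_mem ((hA _).2 ⟨a, rfl⟩)

/-- a submonoid of a finite group -/
def sub [Finite G] (S : Submonoid G) : Subgroup G where
  toSubmonoid := S
  inv_mem' {x} h := by
    obtain ⟨k, e⟩ := mem_powers_iff_mem_zpowers.2 (inv_mem (mem_zpowers x))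
    exact e ▸ S.pow_mem h k

theorem cube {K : Type*} [Field K] {x y : K} (h : x ^ 3 = 1) (k : x ≠ 1) (e : y ^ 3 = 1) : y = 1 ∨ y = x ∨ y = x * x := by
  have p : x * x + x + 1 = 0 := mul_left_cancel₀ (sub_ne_zero.2 k) (by linear_combination h)
  have : (y - 1) * ((y - x) * (y - x * x)) = 0 := by linear_combination e + (y - 1) * h - (y - 1) * (y + 0) * p
  simpa only [mul_eq_zero, sub_eq_zero] using this

end CF.Hk.M
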