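/-
Minimal `2`-fusion systems: the model `Sp₄(q)`.
-/
import Cfsg.Agent.Hk.M0
import Cfsg.Agent.S4q.M4u
set_option autoImplicit false
set_option linter.unusedSectionVars false

namespace CF.Hk
open Subgroup Cfsg CF.BG CF.Sig CF.GW CF.Ab2
open CF.Cl2 (AB)
open CF.Fus (PIso MulOn img)
open CF.S4q hiding St Ac Mv
open CF.S4q.M2 CF.Hk.M

namespace M4
variable {K : Type} [Field K] [Fintype K] [CharP K 2] {G : Type} [Group G] {A B X Y N : Subgroup G} {x₁ x₂ x₃ x₄ : K → G}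
  {β : MulAut (P K)} {g : P K}

variable (K) in
/-- automorphisms normalising the Sylow subgroup and the torus -/
noncomputable def La : Subgroup (MulAut (P K)) := sub
  { carrier := {β | (∀ g ∈ Us K, β g ∈ Us K) ∧ ∀ g ∈ Hs K, β g ∈ Hs K}
    one_mem' := ⟨fun _ h => h, fun _ h => h⟩
    mul_mem' := fun a b => ⟨fun g h => a.1 _ (b.1 g h), fun g h => a.2 _ (b.2 g h)⟩ }

theorem h_La (l m : Kˣ) : MulAut.conj (hr l m) ∈ La K :=
  ⟨fun _ h => (mem_normalizer_iff.1 (H_nU (hr_H l m)) _).1 h, fun _ h => mul_mem (mul_mem (hr_H l m) h) (inv_mem (hr_H l m))⟩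
theorem s_La (h : Sa β) : β ∈ La K := ⟨fun g k => h.mU.le ⟨g, k, rfl⟩, fun g k => h.mH.le ⟨g, k, rfl⟩⟩

theorem u_one (d : Dq.Sm K 4) (i : g ∈ Us K) (h : MulAut.conj g ∈ La K) : g = 1 := cUH d i (mem_cent.2 fun k j => by
  have := two_odd rt_xr.two (g := g * k * g⁻¹ * k⁻¹) (by
    simpa only [mul_assoc, inv_inv] using mul_mem i ((mem_normalizer_iff.1 (H_nU j) _).1 (inv_mem i))) (mul_mem (h.2 k j) (inv_mem j))
  rw [mul_inv_eq_one, mul_inv_eq_iff_eq_mul] at this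
  exact this.symm)

theorem md (d : Dq.Sm K 4) : Md (Us K) (A1 K) (A2 K) (La K) (nr K 4) := by
  have ab : ∀ {E : Subgroup (P K)}, Dbl.El E → Abelem 2 E := fun h =>
    .mk' p2 (abel_of_forall fun x i y j => by
      rw [← mul_inv_eq_one, ← h _ (mul_mem i j), mul_inv_rev, inv_eq_of_mul_eq_one_left (h x i), inv_eq_of_mul_eq_one_left (h y j)])
      fun a i => (pow_two a).trans (h a i)
  refine ⟨Sq.B4.simple d, ⟨ab el_A1, ab el_A2, ?_, A1_le, A2_le, fun s i => ?_, fun s => U_inv, fun h => ?_, fun h => ?_⟩,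
    fun l h => h.1, fun l h k => ?_, fun g h => ?_, ?_, fun h => ?_⟩
  · obtain ⟨Q, q, l⟩ := exists_syl_le (le_top (a := Us K)) (piGrp_of_isPGroup p2 rt_xr.two)
    exact U_syl.eq_of_le q.pi.isPGroup l le_top ▸ q
  · obtain ⟨a, b, c, e, rfl⟩ := mem_U.1 i
    exact ⟨_, A1_nf a b c, _, x4_A e, rfl⟩
  · exact one_ne_zero (nf_A2.1 (M4u.x1_nf (1 : K) ▸ h (x1_A 1)))
  · exact one_ne_zero (nf_A1.1 (M4u.x4_nf (1 : K) ▸ h (x4_A 1)))
  · obtain ⟨z, i, rfl⟩ := M4u.cU d l k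
    rw [u_one d (Z_le i) h, map_one]
  · obtain ⟨u, i, l, m, rfl⟩ := NU h
    exact ⟨u, i, _, h_La l m, rfl⟩
  · refine Loc.mem_normalizer_of_conj_mem fun x i => ?_
    obtain ⟨a, b, c, rfl⟩ := mem_A1.1 i
    rw [← conj_mul, ← conj_mul, n4_cj, n4_cj, n4_cj]
    exact mul_mem (mul_mem (Z_le1 (M4u.x3_Z a)) (Z_le1 (M4u.x2_Z b))) (x1_A c)
  · have := (mem_normalizer_iff.1 h _).1 (A_inf.ge (M4u.x3_Z (1 : K)))
    rw [n4_cj] at this
    exact one_ne_zero (nf_A2.1 (M4u.x1_nf (1 : K) ▸ this.2))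

theorem odd (d : Dq.Sm K 4) (h : β ∈ La K) (e : β * β = 1) (k : ∃ a ∈ A1 K, β a ∉ A1 K) :
    ∃ e : ℕ, Odd e ∧ Fintype.card K = 2 ^ e := by
  obtain ⟨u, i, l, m, β, p, rfl⟩ := nU d h.1
  have q := M3.sq1 d p e
  obtain ⟨θ, p | p⟩ := p
  · obtain ⟨_, j, k⟩ := k
    obtain ⟨a, b, c, rfl⟩ := mem_A1.1 j
    refine (k ?_).elim
    rw [map_mul MulAut.conj, mul_assoc, MulAut.mul_apply, MulAut.conj_apply]
    simp only [MulAut.mul_apply, map_mul, p _ _, MulAut.conj_apply, hr_cj]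
    obtain ⟨a', b', c', e', rfl⟩ := mem_U.1 i
    rw [rt_xr.inv4, a1_nf (_ * θ a), rt_xr.mul, rt_xr.mul, nf_A1]
    grind
  obtain ⟨n, -, c⟩ := FiniteField.card K 2
  refine ⟨n, by_contra fun o => ?_, c⟩
  obtain ⟨r, o⟩ := Nat.not_odd_iff_even.1 o
  obtain ⟨w, w3⟩ := exists_prime_orderOf_dvd_card' (G := Kˣ) 3 (by
    rw [Nat.card_units, Nat.card_eq_fintype_card, c, o, ← two_mul, pow_mul]
    simpa using Nat.sub_dvd_pow_sub_pow 4 1 r)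
  have a : w.1 ^ 3 = 1 := by rw [← Units.val_pow_eq_pow_val, ← w3, pow_orderOf_eq_one, Units.val_one]
  have b : w.1 ≠ 1 := fun b => by rw [Units.val_eq_one.1 b, orderOf_one] at w3; omega
  have t : θ (θ (w.1 ^ 2)) = w.1 := (xr_inj (i := 1) ((p.mul p 1 w.1).symm.trans (by rw [q]; rfl)) :)
  have s : w.1 * w.1 ≠ w.1 := fun s => b (mul_left_cancel₀ w.ne_zero (s.trans (mul_one _).symm))
  rcases cube a b (y := θ w.1) (by rw [← map_pow, a, map_one]) with f | f | f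
  · exact b (θ.injective (f.trans (map_one θ).symm))
  · exact s (by simpa [pow_two, f] using t)
  · refine s ?_
    rw [pow_two, map_mul, f, show w.1 * w.1 * (w.1 * w.1) = w.1 by linear_combination w.1 * a, f] at t
    exact t

section
variable (h : Co4 K A B X Y N x₁ x₂ x₃ x₄)
include h
theorem z1 : x₁ 0 = 1 := by simpa using h.m1 0 0
theorem z2 : x₂ 0 = 1 := by simpa using h.m2 0 0
theorem z3 : x₃ 0 = 1 := by simpa using h.m3 0 0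
theorem z4 : x₄ 0 = 1 := by simpa using h.m4 0 0
theorem mul (a b c e a' b' c' e' : K) : x₁ a * x₂ b * x₃ c * x₄ e * (x₁ a' * x₂ b' * x₃ c' * x₄ e') =
    x₁ (a + a') * x₂ (b + b' + a' * a' * e) * x₃ (c + c' + a' * e) * x₄ (e + e') := by
  have l : ∀ {u v w : G}, u * v = w → ∀ g, u * (v * g) = w * g := fun h g => by rw [← mul_assoc, h]
  simp only [h.m1, h.m2, h.m3, h.m4, mul_assoc, l (h.c14 _ _), l (h.c12 _ _), l (h.c13 _ _), l (h.c23 _ _), l (h.c24 _ _),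
    l (h.c34 _ _)]
  have k2 : ∀ a b, x₂ a * x₂ b = x₂ b * x₂ a := fun a b => by rw [← h.m2, ← h.m2, add_comm]
  have k3 : ∀ a b, x₃ a * x₃ b = x₃ b * x₃ a := fun a b => by rw [← h.m3, ← h.m3, add_comm]
  rw [l (k2 _ b'), l (k3 _ c'), mul_assoc, mul_assoc]
theorem gen (d : Dq.Sm K 4) (H : Subgroup G) (k : ∀ x, (∃ a, x = x₁ a ∨ x = x₄ a) → x ∈ H) : B ≤ H := by
  have k1 : ∀ a, x₁ a ∈ H := fun a => k _ ⟨a, .inl rfl⟩
  have k4 : ∀ a, x₄ a ∈ H := fun a => k _ ⟨a, .inr rfl⟩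
  have z : ∀ a e, x₂ (a * a * e) * x₃ (a * e) ∈ H := fun a e => by
    have := mul_mem (k4 e) (k1 a)
    rwa [h.c14, mul_mem_cancel_right (k4 e), mul_assoc, mul_mem_cancel_left (k1 a)] at this
  obtain ⟨t, t1⟩ := ex3 d
  have t2 : t.1 * t.1 + t.1 ≠ 0 := fun e => t1 (Units.val_eq_one.1 (mul_left_cancel₀ t.ne_zero (by grind)))
  have k2 : ∀ b, x₂ b ∈ H := fun b => by
    obtain ⟨e, rfl⟩ : ∃ e, b = (t.1 * t.1 + t.1) * e := ⟨_, (mul_div_cancel₀ b t2).symm⟩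
    have := mul_mem (z t e) (z 1 (t * e))
    rwa [mul_assoc, ← mul_assoc (x₃ _), h.c23, mul_assoc (x₂ _), ← h.m3, ← mul_assoc, ← h.m2, one_mul, one_mul, CharTwo.add_self_eq_zero,
      z3 h, mul_one, ← add_mul] at this
  intro g i
  obtain ⟨a, b, c, e, rfl⟩ := (h.memB g).1 i
  exact mul_mem (mul_mem (mul_mem (k1 a) (k2 b)) (by simpa [mul_mem_cancel_left (k2 _)] using z 1 c)) (k4 e)

theorem co (d : Dq.Sm K 4) : ∃ θ, Co (Us K) (A1 K) (La K) (nr K 4) θ A B X Y N := by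
  obtain ⟨θ, i, e⟩ := ex_piso (B := B) (U := Us K) (f := fun p : K × K × K × K => x₁ p.1 * x₂ p.2.1 * x₃ p.2.2.1 * x₄ p.2.2.2)
    (f' := fun p => xr 1 p.1 * xr 2 p.2.1 * xr 3 p.2.2.1 * xr 4 p.2.2.2)
    (fun p q => (p.1 + q.1, p.2.1 + q.2.1 + q.1 * q.1 * p.2.2.2, p.2.2.1 + q.2.2.1 + q.1 * p.2.2.2, p.2.2.2 + q.2.2.2))
    (fun ⟨a, b, c, e⟩ ⟨a', b', c', e'⟩ k => by
      have := h.inj _ _ _ _ ((mul h a' b' c' e' a (b + a * a * e) (c + a * e) e).symm.trans (by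
        rw [← show _ = x₁ a' * x₂ b' * x₃ c' * x₄ e' from k, mul h, show a + a = 0 by grind, show e + e = 0 by grind,
          show b + (b + a * a * e) + a * a * e = 0 by grind, show c + (c + a * e) + a * e = 0 by grind]
        simp [z1 h, z2 h, z3 h, z4 h]))
      simp only [Prod.mk.injEq]
      grind)
    (fun ⟨a, b, c, e⟩ ⟨a', b', c', e'⟩ k => by simpa using U_inj k) (fun _ _ => mul h ..) (fun _ _ => rt_xr.mul ..)
    (fun g => by simp [h.memB]) fun g => by simp [mem_U]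
  have e1 : ∀ a, θ (x₁ a) = xr 1 a := fun a => by simpa [z2 h, z3 h, z4 h, rt_xr.zero] using e (a, 0, 0, 0)
  have e4 : ∀ a, θ (x₄ a) = xr 4 a := fun a => by simpa [z1 h, z2 h, z3 h, rt_xr.zero] using e (0, 0, 0, a)
  have e3 : ∀ a b c, θ (x₁ a * x₂ b * x₃ c) = xr 1 a * xr 2 b * xr 3 c := fun a b c => by
    simpa [z4 h, rt_xr.zero] using e (a, b, c, 0)
  have b1 : ∀ a, x₁ a ∈ B := fun a => (h.memB _).2 ⟨a, 0, 0, 0, by simp [z2 h, z3 h, z4 h]⟩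
  have b4 : ∀ a, x₄ a ∈ B := fun a => (h.memB _).2 ⟨0, 0, 0, a, by simp [z1 h, z2 h, z3 h]⟩
  refine ⟨θ, h.toCm, i, img_of (f := fun p : K × K × K => x₁ p.1 * x₂ p.2.1 * x₃ p.2.2) (fun p => e3 ..)
    (fun g => by simp [h.memA]) fun g => by simp [mem_A1], fun n k => ?_, fun g k => ?_, ?_⟩
  · obtain ⟨σ, c, f, k | k⟩ := h.act n k
    · obtain ⟨l, m, rfl, rfl⟩ := al_sur (i := 1) (j := 4) (by decide) (by decide) c f
      obtain ⟨β, p⟩ := ex_St σ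
      refine ⟨_, mul_mem (h_La l m) (s_La ⟨σ, .inl p⟩), ac_of i.mul _ (gen h d) ?_⟩
      rintro _ ⟨a, rfl | rfl⟩ <;> simp [k, b1, b4, e1, e4, p _ _, hr_cj]
    · obtain ⟨l, m, rfl, rfl⟩ := al_sur (i := 1) (j := 4) (by decide) (by decide) f c
      obtain ⟨β, p⟩ := ex_Sg σ
      have p1 : ∀ a, β (xr 1 a) = xr 4 (σ (a * a)) := p 1
      have p4 : ∀ a, β (xr 4 a) = xr 1 (σ a) := p 4
      refine ⟨_, mul_mem (h_La l m) (s_La ⟨σ, .inr p⟩), ac_of i.mul _ (gen h d) ?_⟩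
      rintro _ ⟨a, rfl | rfl⟩ <;> simp [k, b1, b4, e1, e4, p1, p4, hr_cj]
  · obtain ⟨u, j, l, m, rfl⟩ := NU (g := g) (Loc.mem_normalizer_of_conj_mem k.1)
    obtain rfl := u_one d j (by simpa using mul_mem k (inv_mem (h_La l m)))
    obtain ⟨n, k, r⟩ := h.tor (al 1 l m) (al 4 l m)
    refine ⟨n, k, ac_of i.mul _ (gen h d) ?_⟩
    rintro _ ⟨a, rfl | rfl⟩ <;> simp [r, b1, b4, e1, e4, hr_cj]
  · obtain ⟨w, k, r⟩ := h.w
    refine ⟨w, k, fun g j => ?_⟩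
    obtain ⟨a, b, c, rfl⟩ := (h.memA g).1 j
    rw [e3, ← conj_mul, ← conj_mul, ← conj_mul, ← conj_mul, n4_cj, n4_cj, n4_cj, (r a).1, (r b).2.2, (r c).2.1, h.c23, mul_assoc,
      h.c13, ← mul_assoc, h.c12, e3]
    change _ = xr 3 a * xr 2 b * xr 1 c
    rw [c23]
    simpa [rt_xr.zero] using (rt_xr.mul (x := xr) 0 b a 0 c 0 0 0).symm
end
end M4

theorem m4 (K : Type) [Field K] [Fintype K] (h2 : (2 : K) = 0) (q : 2 < Nat.card K) :
    ∃ (L : Type) (_ : Group L) (_ : Finite L) (U A₀ A₀' : Subgroup L) (Λ : Subgroup (MulAut L)) (w₀ : L),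
      Nonempty (L ≃* PSp 2 K) ∧ Md U A₀ A₀' Λ w₀ ∧
      (∀ (G : Type) [Group G] (A B X Y N : Subgroup G) (x₁ x₂ x₃ x₄ : K → G), Co4 K A B X Y N x₁ x₂ x₃ x₄ →
        ∃ θ, Co U A₀ Λ w₀ θ A B X Y N) ∧
      ∀ l ∈ Λ, l * l = 1 → (∃ a ∈ A₀, l a ∉ A₀) → ∃ e : ℕ, Odd e ∧ Fintype.card K = 2 ^ e := by
  have : CharP K 2 := CharTwo.of_one_ne_zero_of_two_eq_zero one_ne_zero h2
  have d : Dq.Sm K 4 := ⟨by decide, le_rfl, fun _ => q⟩
  obtain ⟨-, -, -, -, c, -⟩ := Sq.B4.psp d (j := 2) rfl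
  exact ⟨P K, _, inferInstance, _, _, _, _, _, ⟨c⟩, M4.md d, fun _ _ _ _ _ _ _ _ _ _ _ h => M4.co h d, fun _ => M4.odd d⟩

end CF.Hk
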