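/-
Minimal `2`-fusion systems in the pushing up case: targets whose Sylow subgroup is the holomorph of `ℤ/8`.
-/
import Cfsg.Agent.Hk.A
set_option autoImplicit false
set_option linter.unusedSectionVars false

namespace CF.Hk.O
open Subgroup Cfsg CF.BG CF.Sig CF.GW CF.Ab2
open CF.Cl2 (AB Mv)

/-- the holomorph of `ℤ/8` -/
def Hl : Type := Fin 8 × Fin 2 × Fin 2

def mm (x : Fin 2 × Fin 2) : Fin 8 := ![![1, 3], ![5, 7]] x.1 x.2

instance hlF : Fintype Hl := inferInstanceAs (Fintype (Fin 8 × Fin 2 × Fin 2))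
instance hlD : DecidableEq Hl := inferInstanceAs (DecidableEq (Fin 8 × Fin 2 × Fin 2))
instance hlM : Mul Hl := ⟨fun x y => (x.1 + mm x.2 * y.1, x.2 + y.2)⟩
instance hlO : One Hl := ⟨(0, 0)⟩
instance hlI : Inv Hl := ⟨fun x => (-(mm x.2 * x.1), x.2)⟩
theorem mm_add : ∀ x y z, mm (x + y) * z = mm x * (mm y * z) ∧ ∀ w, mm x * (z + w) = mm x * z + mm x * w := by decide +kernel
instance hlG : Group Hl := .ofLeftAxioms (fun x y z => Prod.ext (by
  change _ + _ + mm (_ + _) * _ = _ + mm _ * (_ + _)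
  rw [(mm_add ..).1, (mm_add x.2 0 _).2, add_assoc]) (add_assoc ..)) (by decide) (by decide)

def sg (m c : ℕ) (h : ∀ x y : Hl, x.1.val % m = c * x.2.2.val → y.1.val % m = c * y.2.2.val →
    (x * y).1.val % m = c * (x * y).2.2.val ∧ (x⁻¹).1.val % m = c * (x⁻¹).2.2.val) : Subgroup Hl where
  carrier := {x | x.1.val % m = c * x.2.2.val}
  mul_mem' a b := (h _ _ a b).1
  one_mem' := Nat.zero_mod m
  inv_mem' a := (h _ _ a a).2

instance sgD (m c h) : DecidablePred (· ∈ sg m c h) := fun x => inferInstanceAs (Decidable (x.1.val % m = c * x.2.2.val))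

abbrev A0 := sg 4 0 (by decide +kernel)
abbrev A1 := sg 4 2 (by decide +kernel)
abbrev B0 := sg 2 0 (by decide +kernel)
def hr : Hl := (1, 0, 0)
def ht : Hl := (0, 1, 0)
def hd : Hl := (0, 0, 1)

theorem c32 : ♯(⊤ : Subgroup Hl) = 2 ^ 5 := by rw [card_top, Nat.card_eq_fintype_card]; rfl
theorem p32 : P2 (⊤ : Subgroup Hl) := by rw [PiGrp, c32]; exact piNat_pow_self Nat.prime_two 5

theorem st0 : St ⊤ A0 A1 B0 hr where
  ab := ⟨⟨p32.le le_top, abel_of_forall (by decide +kernel), by decide +kernel⟩, ⟨p32.le le_top, abel_of_forall (by decide +kernel), by decide +kernel⟩,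
    ⟨le_rfl, p32.le le_top, by rw [relIndex_self]; exact piNat_one _⟩, fun x => by revert x; decide, fun x => by revert x; decide,
    by decide +kernel, by decide +kernel, fun h => absurd (h (show hd ∈ A0 by decide)) (by decide),
    fun h => absurd (h (show hr * hr * hd ∈ A1 by decide)) (by decide)⟩
  pS := p32
  bS := le_top
  sS := trivial
  cov x _ := (by decide : ∀ x : Hl, x ∈ B0 ∨ x * hr ∈ B0) x
  sw := ext fun x => by rw [mem_cj]; revert x; decide +kernel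
  sw' := ext fun x => by rw [mem_cj]; revert x; decide +kernel

theorem cz : ♯(A0 ⊓ A1 : Subgroup Hl) = 4 := by
  rw [Nat.card_congr (Equiv.subtypeEquivRight (q := fun x => x ∈ A0 ∧ x ∈ A1) fun _ => mem_inf), Nat.card_eq_fintype_card]
  decide +kernel

variable {G G' : Type*} [Group G] [Finite G] [Group G'] {S A A' B : Subgroup G} {r τ d ρ s : G}

theorem St.map (h : St S A A' B s) {f : G →* G'} (i : Function.Injective f) :
    St (S.map f) (A.map f) (A'.map f) (B.map f) (f s) where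
  ab := ⟨h.ab.ea.map f, h.ab.eb.map f, h.ab.syl.map f, map_mono h.ab.la, map_mono h.ab.lb, fun _ ⟨x, m, e⟩ =>
      let ⟨a, p, b, q, k⟩ := h.ab.mul x m
      ⟨_, mem_map_of_mem f p, _, mem_map_of_mem f q, by rw [← e, ← k, map_mul]⟩,
    fun _ ⟨x, m, e⟩ k => e ▸ (h.ab.inv x m (i (by rw [map_mul, e, k, map_one]))).imp (mem_map_of_mem f) (mem_map_of_mem f),
    mt (map_le_map_iff_of_injective i).1 h.ab.nab, mt (map_le_map_iff_of_injective i).1 h.ab.nba⟩
  pS := h.pS.map f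
  bS := map_mono h.bS
  sS := mem_map_of_mem f h.sS
  cov _ := fun ⟨x, m, e⟩ => e ▸ (h.cov x m).imp (mem_map_of_mem f) fun k => map_mul f x s ▸ mem_map_of_mem f k
  sw := by rw [← map_cj, h.sw]
  sw' := by rw [← map_cj, h.sw']

/-- generators of the Sylow subgroup and an element `ρ` of order three -/
structure Rl (r τ d ρ : G) : Prop where
  r8 : r ^ 8 = 1
  r4 : r ^ 4 ≠ 1
  t2 : τ * τ = 1
  d2 : d * d = 1
  td : τ * d = d * τ
  tr : τ * r * τ⁻¹ = r ^ 5
  dr : d * r * d⁻¹ = r ^ 3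
  rt : ρ * τ * ρ⁻¹ = τ
  rz : ρ * r ^ 4 * ρ⁻¹ = d
  rd : ρ * d * ρ⁻¹ = r ^ 4 * d
  ca : ∀ g, g * τ = τ * g → g * r ^ 4 = r ^ 4 * g → g * d = d * g → ∃ i j k : ℕ, g = (r ^ 4) ^ i * d ^ j * τ ^ k
  od : ∃ n, Odd n ∧ Nat.card G = 2 ^ 5 * n

def w (τ d : G) (x : Fin 2 × Fin 2) : G := τ ^ x.1.val * d ^ x.2.val

namespace Rl
variable (h : Rl r τ d ρ)
include h

theorem w_mul (x y : Fin 2 × Fin 2) : w τ d (x + y) = w τ d x * w τ d y := by
  have p : ∀ {g : G}, g * g = 1 → ∀ i j : Fin 2, g ^ (i + j).val = g ^ i.val * g ^ j.val := fun e i j => by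
    rw [Fin.val_add, ← pow_eq_pow_mod _ ((pow_two _).trans e), pow_add]
  simp only [w, Prod.fst_add, Prod.snd_add, p h.t2, p h.d2, mul_assoc]
  rw [(Commute.pow_pow h.td y.1.val x.2.val).left_comm]

theorem w_r (x : Fin 2 × Fin 2) : w τ d x * r * (w τ d x)⁻¹ = r ^ (mm x).val := by
  obtain ⟨i, k⟩ := x
  fin_cases i <;> fin_cases k <;> simp only [w, pow_zero, pow_one, one_mul, mul_one, inv_one]
  · exact (pow_one r).symm
  · exact h.dr
  · exact h.tr
  · rw [show τ * d * r * (τ * d)⁻¹ = τ * (d * r * d⁻¹) * τ⁻¹ by group, h.dr, ← conj_pow, h.tr, ← pow_mul, pow_eq_pow_mod _ h.r8]; rfl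

/-- the embedding -/
def e : Hl →* G := .mk' (fun x => r ^ x.1.val * w τ d x.2) fun x y => by
  change r ^ (x.1 + mm x.2 * y.1).val * w τ d (x.2 + y.2) = _
  rw [h.w_mul, Fin.val_add, ← pow_eq_pow_mod _ h.r8, pow_add, Fin.val_mul, ← pow_eq_pow_mod _ h.r8, pow_mul, ← h.w_r, conj_pow]
  group

theorem er : h.e hr = r := by change r ^ 1 * (τ ^ 0 * d ^ 0) = r; simp
theorem et : h.e ht = τ := by change r ^ 0 * (τ ^ 1 * d ^ 0) = τ; simp
theorem ed : h.e hd = d := by change r ^ 0 * (τ ^ 0 * d ^ 1) = d; simp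

theorem inj : Function.Injective h.e := (injective_iff_map_eq_one _).2 fun x k =>
  ((by decide +kernel : ∀ x : Hl, x = 1 ∨ ∃ n : Fin 5, x ^ n.val = hr ^ 4 ∨ (x * hr * x⁻¹ * hr⁻¹) ^ n.val = hr ^ 4) x).resolve_right
    fun ⟨_, p⟩ => h.r4 (by rcases p with p | p <;> simpa [k, h.er] using (congrArg h.e p).symm)

theorem le {H : Subgroup G} {m : ℕ} {p} (a : r ^ m ∈ H) (b : τ ∈ H) (c : d ∈ H) : (sg m 0 p).map h.e ≤ H := by
  rintro _ ⟨x, hx, rfl⟩
  obtain ⟨n, k⟩ := Nat.dvd_of_mod_eq_zero (hx.trans (zero_mul _))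
  exact mul_mem (by rw [k, pow_mul]; exact pow_mem a n) (mul_mem (pow_mem b _) (pow_mem c _))

theorem tg : ∃ S A A' B : Subgroup G, Tg S A A' B r ∧ A'.relIndex A = 2 ∧ ♯S = 32 ∧ (∀ g, g * r ^ 2 * g⁻¹ = r * d → Ns S B) ∧
    ∀ N : Subgroup G, N.Normal → r ^ 2 ∈ N → τ ∈ N → d ∈ N → r ∉ N → ¬ Ns S B := by
  have lA := fun H => h.le (H := H) (m := 4) (p := by decide +kernel)
  have lB := fun H => h.le (H := H) (m := 2) (p := by decide +kernel)
  obtain ⟨i, er, et, ed⟩ := And.intro h.inj (And.intro h.er (And.intro h.et h.ed))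
  generalize h.e = f at *
  subst er et ed
  have m : ∀ {H : Subgroup Hl} {x}, f x ∈ H.map f ↔ x ∈ H := mem_map_iff_mem i
  have s := St.map st0 i
  have c := (card_map i).trans c32
  have t : f ht ∈ A0.map f := m.2 (by decide)
  have a : f hd ∈ A0.map f := m.2 (by decide)
  have z : ∀ {H : Subgroup Hl}, hr ^ 4 ∈ H → f hr ^ 4 ∈ H.map f := fun k => map_pow f hr 4 ▸ m.2 k
  have z' := z (H := A0) (by decide)
  refine ⟨_, _, _, _, ⟨s, ⟨le_top, s.pS, ?_⟩, fun k => ?_, fun g k => ?_, ?_, fun k => ?_⟩, ?_, c, fun g k => ?_, fun N n p q u v => ?_⟩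
  · obtain ⟨n, o, k⟩ := h.od
    rw [← index_mul_card (map f ⊤), c, mul_comm] at k
    rw [relIndex_top_right, Nat.eq_of_mul_eq_mul_left (by decide) k, piNat_compl_single Nat.prime_two]
    exact o.not_two_dvd_nat
  · have n : ρ ∈ 𝐍 (A0.map f) := mem_norm_of (lA ((A0.map f).comap (MulAut.conj ρ).toMonoidHom)
      (show _ * _ * _ ∈ _ from h.rz ▸ a) (show _ * _ * _ ∈ _ from h.rt.symm ▸ t) (show _ * _ * _ ∈ _ from h.rd ▸ mul_mem z' a))
    exact absurd (m.1 (h.rz ▸ (conj_mem_of_norm (k ⟨trivial, n⟩) ⟨z', z (by decide)⟩).2)) (by decide)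
  · obtain ⟨i, j, l, rfl⟩ := h.ca g (k _ t).symm (k _ z').symm (k _ a).symm
    exact mul_mem (mul_mem (pow_mem z' i) (pow_mem a j)) (pow_mem t l)
  · rw [← map_inf _ _ _ i, card_map i, cz]
  · have := mem_cent1.1 (k ⟨t, m.2 (by decide)⟩)
    rw [← map_mul, ← map_mul] at this
    exact absurd (i this) (by decide)
  · rw [relIndex_map_map_of_injective _ _ i, relIndex_eq_two_iff]; decide +kernel
  · refine ⟨g, _, map_pow f hr 2 ▸ m.2 (by decide), ?_⟩
    rw [k, ← map_mul, m, m]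
    exact ⟨trivial, by decide⟩
  · rintro ⟨g, b, hb, m, k⟩
    exact v ((mul_mem_cancel_left (n.conj_mem _ (lB N p q u hb) g)).1 (lB N p q u ((s.cov _ m).resolve_left k)))

end Rl
end CF.Hk.O
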