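/-
Minimal `2`-fusion systems in the pushing up case: the target `Aut A₆`.
-/
import Cfsg.Agent.Hk.O0
import Cfsg.Agent.Perm.SymAut
set_option autoImplicit false

namespace CF.Hk
open Subgroup Cfsg CF.BG Equiv

namespace O

abbrev S6 := Perm (Fin 6)
abbrev G6 := MulAut (alternatingGroup (Fin 6))
abbrev c6 : S6 →* G6 := MulAut.conjNormal

def sw (i : Fin 5) : S6 := swap i.castSucc i.succ
def tw : Fin 5 → S6 := ![swap 0 1 * swap 2 3 * swap 4 5, swap 0 4 * swap 1 2 * swap 3 5, swap 0 1 * swap 2 5 * swap 3 4,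
  swap 0 3 * swap 1 2 * swap 4 5, swap 0 1 * swap 2 4 * swap 3 5]
def ws (l : List (Fin 5)) : S6 := (l.map sw).prod
def wt (l : List (Fin 5)) : S6 := (l.map tw).prod
def wd : Fin 5 → List (Fin 5) := ![[0, 2, 4], [0, 1, 0, 3, 2, 1, 0, 4, 3], [0, 2, 3, 2, 4, 3, 2], [0, 1, 0, 2, 1, 0, 4], [0, 3, 2, 4, 3]]
def u6 : S6 := ws [0, 2, 3, 2, 4, 3]

theorem c6_inj : Function.Injective c6 := CF.Perm.conjNormal_alt_injective (by simp)

theorem c6_cj {m n k : S6} (h : m * n = k * m) : c6 m * c6 n * (c6 m)⁻¹ = c6 k := by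
  rw [mul_inv_eq_iff_eq_mul, ← map_mul, h, map_mul]

theorem ex_om : ∃ ω : MulAut S6, (∀ l, ω (ws l) = wt l) ∧ ∀ x, ω (ω x) = u6 * x * u6⁻¹ := by
  obtain ⟨φ, h⟩ := CF.Fisch.sym_exists_hom 5 tw (by decide) (by unfold Commute SemiconjBy; decide) (by decide)
  have k : ∀ l, φ (ws l) = wt l := fun l => by
    rw [ws, map_list_prod, List.map_map]
    exact congrArg List.prod (List.map_congr_left fun i _ => h i)
  have e : φ.comp φ = (MulAut.conj u6).toMonoidHom := MonoidHom.eq_of_eqOn_denseM (Perm.mclosure_swap_castSucc_succ 5) (by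
    rintro _ ⟨i, rfl⟩
    have := (by decide +kernel : ∀ i, tw i = ws (wd i) ∧ wt (wd i) = u6 * sw i * u6⁻¹) i
    exact (congrArg φ ((h i).trans this.1)).trans ((k _).trans this.2))
  exact ⟨.ofBijective φ (Finite.injective_iff_bijective.1 (.of_comp (f := φ) (by rw [← φ.coe_comp, e]; exact (MulAut.conj u6).injective))),
    k, DFunLike.congr_fun e⟩

theorem cA6 : ∀ σ : S6, σ * ws [2, 4] = ws [2, 4] * σ → σ * ws [0, 4] = ws [0, 4] * σ → σ * ws [0, 2, 4] = ws [0, 2, 4] * σ →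
    ∃ i j k : Fin 2, σ = ws [2, 4] ^ i.val * ws [0, 4] ^ j.val * ws [0, 2, 4] ^ k.val := by decide +kernel

end O
open O

theorem tA : ∃ (G : Type) (_ : Group G) (_ : Finite G) (S A A' B : Subgroup G) (s : G),
    Tg S A A' B s ∧ A'.relIndex A = 2 ∧ ¬ Ns S B ∧ Cn S G := by
  obtain ⟨ω, k, e⟩ := ex_om
  obtain ⟨r, act, r2, fm⟩ : ∃ r : G6, (∀ x, r * c6 x = c6 (ω x) * r) ∧ r ^ 2 = c6 u6 ∧ ∀ g, ∃ σ, g = c6 σ ∨ g = r * c6 σ := by
    refine ⟨CF.Perm.resAlt ω, fun x => by ext1; ext1; simp, by ext1; ext1; simp [pow_two, e], CF.Perm.aut_alt_six (by simp) fun c hc h => ?_⟩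
    have h2 : (ws [0, 1]).IsThreeCycle := card_support_eq_three_iff.1 (by decide)
    have h4 := (Perm.isConj_iff_cycleType_eq.1 (ω.toMonoidHom.map_isConj (Perm.isConj_iff_cycleType_eq.2 (h2.trans hc.symm)))).trans h
    rw [MulEquiv.coe_toMonoidHom, k] at h4
    exact absurd (Perm.IsThreeCycle.card_support h4) (by decide)
  have out : ∀ σ y, r * c6 σ * c6 (ws [0]) = c6 y * (r * c6 σ) → y.support.card = 6 := fun σ y h => by
    rw [mul_assoc, ← map_mul, ← inv_mul_cancel_right (σ * _) σ, map_mul, ← mul_assoc, act, mul_assoc, mul_left_inj, c6_inj.eq_iff] at h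
    rw [← h, map_mul, map_mul, map_inv, Perm.card_support_conj, k]; decide
  have o : r ∉ c6.range := fun ⟨τ, h⟩ => by
    have := out 1 (τ * ws [0] * τ⁻¹) (by simp [← h])
    rw [Perm.card_support_conj] at this
    exact absurd this (by decide)
  have r4 : r ^ 4 = c6 (ws [2, 4]) := by rw [pow_mul r 2 2, r2, ← map_pow]; exact congrArg c6 (by decide +kernel)
  have cj : ∀ l y n, r ^ n = c6 y → ws l = y * wt l → c6 (ws l) * r * (c6 (ws l))⁻¹ = r ^ (n + 1) := fun l y n a b => by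
    rw [mul_inv_eq_iff_eq_mul, pow_succ, a, mul_assoc, act, k, ← mul_assoc, ← map_mul, ← b]
  have sq : ∀ x : S6, x * x = 1 → c6 x * c6 x = 1 := fun x h => by rw [← map_mul, h, map_one]
  have ix : c6.range.index = 2 := index_eq_two_iff_exists_notMem_and'.2 ⟨r, o, fun g => by
    obtain ⟨σ, rfl | rfl⟩ := fm g
    exacts [.inr ⟨σ, rfl⟩, .inl ⟨u6 * σ, by rw [map_mul, ← r2, pow_two, mul_assoc]⟩]⟩
  have h : Rl r (c6 (ws [0, 2, 4])) (c6 (ws [0, 4])) (c6 (ws [1, 0, 2, 1, 3, 2, 4, 3])) :=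
    { r8 := by rw [pow_mul r 4 2, r4, pow_two]; exact sq _ (by decide)
      r4 := by rw [r4, ← c6.map_one]; exact c6_inj.ne (by decide)
      t2 := sq _ (by decide)
      d2 := sq _ (by decide)
      td := by rw [← map_mul, ← map_mul]; exact congrArg c6 (by decide +kernel)
      tr := cj _ _ 4 r4 (by decide +kernel)
      dr := cj _ _ 2 r2 (by decide +kernel)
      rt := c6_cj (by decide +kernel)
      rz := by rw [r4]; exact c6_cj (by decide +kernel)
      rd := by rw [r4, ← map_mul c6 (ws [2, 4])]; exact c6_cj (by decide +kernel)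
      ca g a b c := by
        rw [r4] at b ⊢
        obtain ⟨σ, rfl | rfl⟩ := fm g
        · simp only [← map_mul, c6_inj.eq_iff] at a b c
          obtain ⟨i, j, l, rfl⟩ := cA6 σ b c a
          exact ⟨i, j, l, by simp⟩
        · exact absurd (out σ (ws [0, 2, 4] * ws [2, 4]) (by
            rw [show ws [0] = ws [0, 2, 4] * ws [2, 4] by decide +kernel, map_mul]; exact Commute.mul_right a b)) (by decide)
      od := ⟨45, by decide, by
        rw [← c6.range.index_mul_card, ix, ← Nat.card_congr (MonoidHom.ofInjective c6_inj).toEquiv, Nat.card_perm]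
        simp [Nat.factorial]⟩ }
  obtain ⟨S, A, A', B, t, i, c, -, n⟩ := h.tg
  exact ⟨G6, inferInstance, inferInstance, S, A, A', B, r, t, i, n _ (normal_of_index_eq_two ix) ⟨_, r2.symm⟩ ⟨_, rfl⟩ ⟨_, rfl⟩ o,
    .inr (.inr (.inr (.inl ⟨c, .inl ⟨.refl _⟩⟩)))⟩

end CF.Hk
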